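import Cfsg.Agent.Lib.Chevalley.Bruhat
import Cfsg.Agent.Lib.Chevalley.Torus
import Cfsg.Agent.Lib.Chevalley.Tables
import Cfsg.Prelude.Def_ChevAutomorphisms
import Mathlib.FieldTheory.Fixed
import Mathlib.FieldTheory.Finite.GaloisField

/-!
Fixed points of a field automorphism of a Chevalley group: the group over the fixed field.
-/

set_option autoImplicit false

namespace CfsgLib.KnownB.FieldAut

open CfsgLib.Chevalley CfsgLib.Chevalley.Tbl
open scoped MatrixGroups

variable {T : Tbl}

/-- Base change of invertible matrices along a ring homomorphism. -/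
abbrev mapGL (T : Tbl) {K L : Type*} [Field K] [Field L] (f : K →+* L) : GL T.I K →* GL T.I L :=
  Matrix.GeneralLinearGroup.map f

theorem mapGL_inj {K L : Type*} [Field K] [Field L] (f : K →+* L) :
    Function.Injective (mapGL T f) := fun g g' h => by
  refine Units.ext (Matrix.ext fun i j => f.injective ?_)
  have := congrArg (fun x : GL T.I L => (x : Matrix T.I T.I L) i j) h
  simpa [mapGL] using this

variable {K L : Type*} [Field K] [Field L] (f : K →+* L) (hT : T.Valid)
include hT

theorem map_xU {r : ℕ} (hr : r < T.n) (t : K) : mapGL T f (T.xU K r t) = T.xU L r (f t) := by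
  apply Units.ext
  show f.mapMatrix ((T.xU K r t : GL T.I K) : Matrix T.I T.I K) = _
  rw [xU_val hT hr, xU_val hT hr, map_X]

theorem map_nU {r : ℕ} (hr : r < T.n) (t : K) : mapGL T f (T.nU K r t) = T.nU L r (f t) := by
  simp only [nU, map_mul, map_xU f hT hr, map_xU f hT (neg_lt' hr), map_neg, map_inv₀]

theorem map_nw (l : List (Fin T.rank)) : mapGL T f (T.nw K l) = T.nw L l := by
  induction l with
  | nil => exact map_one _
  | cons i l ih =>
    show mapGL T f (T.nU K (T.simple i.val) 1 * T.nw K l) = _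
    rw [map_mul, ih, map_nU f hT (simple_lt hT i.2), map_one]
    rfl

theorem map_rootGen (P : ℕ → Prop) : (T.rootGen K P).map (mapGL T f) ≤ T.rootGen L P :=
  Subgroup.map_le_iff_le_comap.mpr (rootGen_le fun r hr hP t => by
    rw [Subgroup.mem_comap, map_xU f hT hr]
    exact xU_mem_rootGen (P := P) hr hP _)

theorem map_group : (T.datum.group K).map (mapGL T f) ≤ T.datum.group L := by
  rw [Subgroup.map_le_iff_le_comap, group_eq hT, Subgroup.closure_le]
  rintro g ⟨r, hr, t, rfl⟩
  show mapGL T f (T.xU K r t) ∈ T.datum.group L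
  rw [map_xU f hT hr]
  exact xU_mem_group hT hr _

omit hT in
theorem map_torus (c : Fin T.rank → Kˣ) :
    mapGL T f (torusHom T K c) = torusHom T L fun i => Units.map (f : K →* L) (c i) := by
  apply Units.ext
  show f.mapMatrix ((torusHom T K c : GL T.I K) : Matrix T.I T.I K) = _
  show f.mapMatrix ((T.dU _ : GL T.I K) : Matrix T.I T.I K) =
    ((T.dU _ : GL T.I L) : Matrix T.I T.I L)
  rw [dU_val, dU_val, RingHom.mapMatrix_apply, Matrix.diagonal_map (map_zero f)]
  congr 1
  funext i
  rcases i with i | s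
  · simp [scale]
  · simp [scale, Units.coe_prod, map_prod, Units.val_zpow_eq_zpow_val, map_zpow₀]

omit f

/-- With all elementary divisors of the Cartan matrix one, the torus parametrisation is faithful. -/
theorem torusHom_injective (F : Type*) [Field F] [Fintype F] {U U' V V' : List (List ℤ)} {d : List ℕ}
    (h : T.chkSmith U U' V V' d = true)
    (hd : ∀ i : Fin T.rank, Nat.gcd (Fintype.card F - 1) (d.getD i.val 0) = 1) :
    Function.Injective (torusHom T F) := by
  have hc := card_diag (F := F) hT rfl h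
  simp only [hd, Finset.prod_const_one, one_mul] at hc
  rw [← torusHom_range hT] at hc
  have hs : Function.Surjective (torusHom T F).rangeRestrict := MonoidHom.rangeRestrict_surjective _
  classical
  have hcard : Nat.card (Fin T.rank → Fˣ) = Nat.card (torusHom T F).range := by
    rw [Nat.card_pi, Finset.prod_const, Finset.card_univ, Fintype.card_fin, Nat.card_units,
      Nat.card_eq_fintype_card, hc]
  have := (Nat.bijective_iff_surjective_and_card _).mpr ⟨hs, hcard⟩
  exact fun a b e => this.1 (Subtype.ext e)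

variable {F₀ F : Type*} [Field F₀] [Field F] [Fintype F] (hC : T.chkComm = true)
include hC

/-- An element fixed by `σ` is defined over the fixed field. -/
theorem fixed_mem (σ : F →+* F) (ι : F₀ →+* F) (hfix : ∀ t, σ t = t ↔ t ∈ Set.range ι)
    (hinj : Function.Injective (torusHom T F)) {g : GL T.I F} (hg : g ∈ T.datum.group F)
    (e : mapGL T σ g = g) : g ∈ (T.datum.group F₀).map (mapGL T ι) := by
  classical
  obtain ⟨b, hb, n, hn, w, hw, hm, u, hu, rfl⟩ := exists_canonical hT hC hg
  obtain ⟨l, rfl⟩ := exists_pw hT hw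
  have hd : n * (T.nw F l)⁻¹ ∈ T.datum.diagonalSubgroup F := by
    refine mem_diag_of_mono_one hT (mul_mem hn (inv_mem (nw_mem hT l))) ?_
    have := hm.mul (mono_nw (F := F) hT l).inv
    rwa [mul_inv_cancel] at this
  set b1 := b * (n * (T.nw F l)⁻¹) with hb1
  have hb1B : b1 ∈ T.datum.borelSubgroup F := mul_mem hb (Subgroup.mem_sup_right hd)
  have heq : b * n * u = b1 * T.nw F l * u := by rw [hb1]; group
  rw [heq] at e ⊢
  obtain ⟨u1, hu1, h, hh, he⟩ := (mem_borel_iff hT).mp hb1B
  rw [he] at e hb1B ⊢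
  obtain ⟨c, rfl⟩ : ∃ c, torusHom T F c = h := by
    rw [← MonoidHom.mem_range, torusHom_range hT]; exact hh
  have hu1' : mapGL T σ u1 ∈ T.datum.posUnipotent F := by
    rw [posUnipotent_rootGen hT] at hu1 ⊢
    exact map_rootGen σ hT _ ⟨u1, hu1, rfl⟩
  have hh' : mapGL T σ (torusHom T F c) ∈ T.datum.diagonalSubgroup F := by
    rw [map_torus, ← torusHom_range hT]; exact ⟨_, rfl⟩
  rw [map_mul, map_mul, map_mul, map_nw σ hT] at e
  obtain ⟨-, h2⟩ := canonical_unique hT hC
    (mul_mem (Subgroup.mem_sup_left hu1') (Subgroup.mem_sup_right hh') :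
      mapGL T σ u1 * mapGL T σ (torusHom T F c) ∈ T.datum.borelSubgroup F) hb1B (nw_mem hT l)
    (nw_mem hT l) (mono_nw hT l) (map_rootGen σ hT _ ⟨u, hu, rfl⟩) hu e
  obtain ⟨eb, eu⟩ := h2 (mono_nw hT l) rfl
  have h3 : u1⁻¹ * mapGL T σ u1 ∈ (⊥ : Subgroup (GL T.I F)) := by
    rw [← pos_inf_diag (T := T) (F := F) hT]
    refine Subgroup.mem_inf.mpr ⟨mul_mem (inv_mem hu1) hu1', ?_⟩
    have : u1⁻¹ * mapGL T σ u1 = torusHom T F c * (mapGL T σ (torusHom T F c))⁻¹ := by
      rw [inv_mul_eq_iff_eq_mul, ← mul_assoc, ← eb, mul_inv_cancel_right]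
    rw [this]; exact mul_mem hh (inv_mem hh')
  rw [Subgroup.mem_bot, inv_mul_eq_one] at h3
  rw [← h3, mul_left_cancel_iff] at eb
  -- the unipotent parts
  have hU : ∀ v ∈ T.rootGen F (fun r => T.half ≤ r), mapGL T σ v = v →
      v ∈ (T.datum.group F₀).map (mapGL T ι) := by
    intro v hv ev
    have h2n : T.half + T.half = T.n := (Nat.two_mul _).symm
    obtain ⟨f, rfl⟩ := exists_uProd hT hC T.half T.half h2n le_rfl v hv
    have em : mapGL T σ (T.uProd f T.half T.half) = T.uProd (fun r => σ (f r)) T.half T.half := by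
      simp only [uProd, map_list_prod, List.map_map]
      refine congrArg List.prod (List.map_congr_left fun r hr => ?_)
      simp only [List.mem_range'_1] at hr
      exact map_xU σ hT (by omega) _
    rw [em] at ev
    refine list_prod_mem fun x hx => ?_
    obtain ⟨r, hr, rfl⟩ := List.mem_map.mp hx
    simp only [List.mem_range'_1] at hr
    obtain ⟨t, ht⟩ := (hfix _).mp (uProd_inj hT hC T.half T.half h2n le_rfl _ _ ev r hr.1 (by omega))
    exact ⟨T.xU F₀ r t, xU_mem_group hT (by omega) t, by rw [map_xU ι hT (by omega), ht]⟩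
  rw [posUnipotent_rootGen hT] at hu1
  refine mul_mem (mul_mem (mul_mem (hU u1 hu1 h3.symm) ?_) ?_)
    (hU u (rootGen_mono (fun r _ ⟨_, hp, _⟩ => hp) hu) eu)
  · rw [map_torus] at eb
    have hc := hinj eb
    have : ∀ i, ∃ d : F₀ˣ, Units.map (ι : F₀ →* F) d = c i := fun i => by
      obtain ⟨t, ht⟩ := (hfix _).mp (congrArg Units.val (congrFun hc i))
      exact ⟨Units.mk0 t fun h0 => (c i).ne_zero (by rw [← ht, h0, map_zero]), Units.ext ht⟩
    choose d hd using this
    refine ⟨torusHom T F₀ d, diag_le_group hT ?_, ?_⟩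
    · rw [← torusHom_range hT]; exact ⟨d, rfl⟩
    · rw [map_torus, funext hd]
  · exact ⟨T.nw F₀ l, monomial_le_group hT (nw_mem hT l), map_nw ι hT l⟩

omit hT hC in
/-- The fixed field of an automorphism of a finite field, in the bottom universe. -/
theorem exists_fixed_field (σ : F ≃+* F) :
    ∃ (F₀ : Type) (_ : Field F₀) (_ : Fintype F₀) (ι : F₀ →+* F),
      (∀ t, σ t = t ↔ t ∈ Set.range ι) ∧ Fintype.card F = Fintype.card F₀ ^ orderOf σ := by
  classical
  have : Finite (F ≃+* F) := Finite.of_injective (fun e => (e : F → F)) DFunLike.coe_injective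
  let G : Subgroup (RingAut F) := Subgroup.zpowers σ
  have : Fintype G := Fintype.ofFinite G
  let E := FixedPoints.subfield G F
  have : Fintype E := Fintype.ofFinite E
  have hcard : Fintype.card F = Fintype.card E ^ orderOf σ := by
    rw [Module.card_eq_pow_finrank (K := E) (V := F), FixedPoints.finrank_eq_card G F,
      ← Nat.card_eq_fintype_card, ← Nat.card_eq_fintype_card (α := G), Nat.card_zpowers]
  let e : Fin (Fintype.card E) ≃ E := (Fintype.equivFin E).symm
  letI := e.field
  refine ⟨Fin (Fintype.card E), e.field, inferInstance, (E.subtype).comp e.ringEquiv.toRingHom,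
    fun t => ?_, by rw [Fintype.card_fin, hcard]⟩
  constructor
  · intro ht
    have hmem : t ∈ E := fun g => by
      have hle : G ≤ MulAction.stabilizer (RingAut F) t := by
        rw [Subgroup.zpowers_le]; exact ht
      exact hle g.2
    exact ⟨e.symm ⟨t, hmem⟩, congrArg Subtype.val (e.apply_symm_apply ⟨t, hmem⟩)⟩
  · rintro ⟨x, rfl⟩
    exact (e x).2 ⟨σ, Subgroup.mem_zpowers σ⟩

/-- A field automorphism is the entrywise action of a field automorphism of the same order. -/
theorem exists_map (hn : 0 < T.n) (φ : MulAut ↥(T.datum.group F)) (hφ : T.datum.IsFieldAut φ) :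
    ∃ σ : F ≃+* F, (∀ g : ↥(T.datum.group F), (φ g : GL T.I F) = mapGL T σ.toRingHom (g : GL T.I F)) ∧
      orderOf σ = orderOf φ := by
  obtain ⟨σ, hσ⟩ := hφ
  have hx : ∀ (g : ↥(T.datum.group F)) (s : ℕ) (hs : s < T.n) (t : F), (g : GL T.I F) = T.xU F s t →
      (φ g : GL T.I F) = T.xU F s (σ t) := fun g s hs t h =>
    (eq_x_iff hT hs _ _).mp (hσ g s t hs ((eq_x_iff hT hs t _).mpr h))
  -- two endomorphisms agreeing on root elements agree
  have hext : ∀ (ψ : MulAut ↥(T.datum.group F)) (τ : F →+* F),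
      (∀ (g : ↥(T.datum.group F)) (s : ℕ) (hs : s < T.n) (t : F), (g : GL T.I F) = T.xU F s t →
        (ψ g : GL T.I F) = T.xU F s (τ t)) →
      ∀ g : ↥(T.datum.group F), (ψ g : GL T.I F) = mapGL T τ (g : GL T.I F) := by
    intro ψ τ hψ g
    have : g ∈ (((T.datum.group F).subtype.comp ψ.toMonoidHom).eqLocus
        ((mapGL T τ).comp (T.datum.group F).subtype)) := by
      have key : T.datum.group F ≤ (((T.datum.group F).subtype.comp ψ.toMonoidHom).eqLocus
        ((mapGL T τ).comp (T.datum.group F).subtype)).map (T.datum.group F).subtype := by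
        conv_lhs => rw [group_eq hT]
        rw [Subgroup.closure_le]
        rintro x ⟨s, hs, t, rfl⟩
        refine ⟨⟨_, xU_mem_group hT hs t⟩, ?_, rfl⟩
        show (ψ ⟨_, _⟩ : GL T.I F) = mapGL T τ (T.xU F s t)
        rw [hψ _ s hs t rfl, map_xU τ hT hs]
      obtain ⟨g', hg', e⟩ := key g.2
      rwa [← Subtype.ext (a1 := g') (a2 := g) e]
    exact this
  have hpow : ∀ (k : ℕ) (g : ↥(T.datum.group F)) (s : ℕ) (hs : s < T.n) (t : F),
      (g : GL T.I F) = T.xU F s t → ((φ ^ k) g : GL T.I F) = T.xU F s ((σ ^ k) t) := by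
    intro k
    induction k with
    | zero => intro g s hs t h; simpa using h
    | succ k ih =>
      intro g s hs t h
      rw [pow_succ', pow_succ', MulAut.mul_apply]
      exact hx _ s hs _ (ih g s hs t h)
  have hord : orderOf σ = orderOf φ := by
    rw [orderOf_eq_orderOf_iff]
    intro k
    constructor
    · intro hk
      refine MulEquiv.ext fun g => Subtype.ext ?_
      rw [hext (φ ^ k) (RingHom.id F) (fun g s hs t h => by rw [hpow k g s hs t h, hk]; rfl) g]
      exact Units.ext (Matrix.ext fun i j => rfl)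
    · intro hk
      refine RingEquiv.ext fun t => xU_inj hT hn ?_
      have := hpow k ⟨_, xU_mem_group hT hn t⟩ 0 hn t rfl
      rw [hk] at this
      exact this.symm
  exact ⟨σ, hext φ σ.toRingHom hx, hord⟩

/-- The fixed points of a field automorphism. -/
theorem main (hn : 0 < T.n) (hinj : Function.Injective (torusHom T F))
    (φ : MulAut ↥(T.datum.group F)) (hφ : T.datum.IsFieldAut φ) (r : ℕ) (ho : orderOf φ = r) :
    ∃ (F₀ : Type) (_ : Field F₀) (_ : Fintype F₀), Fintype.card F = Fintype.card F₀ ^ r ∧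
      Nonempty (↥((MulEquiv.toMonoidHom φ).eqLocus (MonoidHom.id ↥(T.datum.group F))) ≃*
        ↥(T.datum.group F₀)) := by
  obtain ⟨σ, hφσ, hord⟩ := exists_map hT hC hn φ hφ
  obtain ⟨F₀, iF, iFi, ι, hfix, hcard⟩ := exists_fixed_field σ
  refine ⟨F₀, iF, iFi, by rw [hcard, hord, ho], ⟨?_⟩⟩
  have himage : ((MulEquiv.toMonoidHom φ).eqLocus (MonoidHom.id ↥(T.datum.group F))).map
      (T.datum.group F).subtype = (T.datum.group F₀).map (mapGL T ι) := by
    refine le_antisymm ?_ ?_
    · rintro _ ⟨g, hg, rfl⟩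
      exact fixed_mem hT hC σ.toRingHom ι hfix hinj g.2 ((hφσ g).symm.trans (congrArg Subtype.val hg))
    · rintro _ ⟨g, hg, rfl⟩
      refine ⟨⟨_, map_group ι hT ⟨g, hg, rfl⟩⟩, Subtype.ext ?_, rfl⟩
      show (φ _ : GL T.I F) = _
      rw [hφσ]
      refine Units.ext (Matrix.ext fun i j => ?_)
      exact (hfix _).mpr ⟨_, rfl⟩
  exact ((Subgroup.equivMapOfInjective _ _ (Subgroup.subtype_injective _)).trans
    (MulEquiv.subgroupCongr himage)).trans
    (Subgroup.equivMapOfInjective _ _ (mapGL_inj ι)).symm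

end CfsgLib.KnownB.FieldAut
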